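import Cfsg.Agent.H282.SK.Def
import Cfsg.Agent.H248.SK.ONOut

/-!
# Sidki pairs (S3010): the row `ON` (helper248)

An involution of `V ∩ K` inverts an element of order 19 and no involution of `K` commutes with it. An outer involution
`u ∈ V` inverts an element `x` of order 31; if `w ∈ V#` commutes with `x` then `w` or `uw` is an involution of `K` commuting
with `x` resp. inverting `x`.
-/

set_option autoImplicit false

universe u

namespace Cfsg.Agent.H248.SK.ON

open Cfsg Subgroup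
open Cfsg.Agent.H282.SK
open Cfsg.Agent.H729.PairBase

section

variable {G : Type u} [Group G] {K : Subgroup G} [K.Normal] (e : K ≃* Cfsg.Spor.ON)

/-- the action on the simple group -/
noncomputable def Φ : G →* MulAut Cfsg.Spor.ON := (MulAut.congr e).toMonoidHom.comp MulAut.conjNormal

theorem Φ_apply (g : G) (k : K) : Φ e g (e k) = e ⟨g * k * g⁻¹, ‹K.Normal›.conj_mem k k.2 g⟩ := by
  have h : MulAut.conjNormal g k = (⟨g * k * g⁻¹, ‹K.Normal›.conj_mem k k.2 g⟩ : K) := Subtype.ext (MulAut.conjNormal_apply g k)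
  rw [← h]
  unfold Φ
  simp [MulAut.congr]

theorem mem_of_inner {G : Type u} [Group G] [Finite G] {V K : Subgroup G} [K.Normal] (h : Cx V K)
    (e : K ≃* Cfsg.Spor.ON) {g : G} {x : Cfsg.Spor.ON} (hg : Φ e g = MulAut.conj x) : g ∈ K := by
  set k : K := e.symm x with hk
  have h1 : (k : G)⁻¹ * g = 1 := by
    apply h.eq_one_of_comm
    intro c hc
    have h2 := Φ_apply e g ⟨c, hc⟩
    rw [hg] at h2
    have h3 : MulAut.conj x (e ⟨c, hc⟩) = e (k * ⟨c, hc⟩ * k⁻¹) := by
      rw [map_mul, map_mul, map_inv, hk, MulEquiv.apply_symm_apply, MulAut.conj_apply]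
    rw [h3] at h2
    have h4 : (k : G) * c * (k : G)⁻¹ = g * c * g⁻¹ := congrArg Subtype.val (e.injective h2)
    calc (k : G)⁻¹ * g * c = (k : G)⁻¹ * (g * c * g⁻¹) * g := by group
      _ = c * ((k : G)⁻¹ * g) := by rw [← h4]; group
  have h2 : g = k := by
    rw [inv_mul_eq_one] at h1
    exact h1.symm
  rw [h2]
  exact k.2

end

/-- **the row `ON`** -/
theorem dead : DeadS.{u} (fun K _ => Cfsg.Spor.IsoON K) := by
  intro G _ _ V K h hK
  have hKn := h.norm
  obtain ⟨e⟩ : Nonempty (K ≃* Cfsg.Spor.ON) := hK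
  have hfin : Finite Cfsg.Spor.ON := Cfsg.Agent.KFacts.ON.OneClass.finite_ON
  have hoe : ∀ {x : G} (hx : x ∈ K), orderOf (e ⟨x, hx⟩) = orderOf x := by
    intro x hx
    rw [MulEquiv.orderOf_eq, orderOf_mk]
  -- no involution of `K` commutes with an element of order `19` or `31`
  have hno : ∀ {r : ℕ}, ¬ r ∣ 161280 → ∀ w ∈ V, w ∈ K → w ≠ 1 → ∀ x : G, orderOf x = r → Odd r → ¬ Commute w x := by
    intro r hr w hwV hwK hw1 x hx hodd hc
    have hxK : x ∈ K := h.odd_mem (by rw [hx]; exact hodd)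
    refine H729.PairON.noTwo hr (e ⟨w, hwK⟩) (e ⟨x, hxK⟩) ?_ ?_ ?_
    · rw [hoe]
      exact orderOf_eq_prime (by rw [pow_two]; exact h.sq hwV) hw1
    · rw [hoe, hx]
    · show e ⟨w, hwK⟩ * e ⟨x, hxK⟩ = e ⟨x, hxK⟩ * e ⟨w, hwK⟩
      rw [← map_mul, ← map_mul]
      exact congrArg e (Subtype.ext hc.eq)
  by_cases hVK : V ≤ K
  · -- `G = K`
    obtain ⟨v, hv, hv1⟩ : ∃ v ∈ V, v ≠ 1 := by
      by_contra hcon
      push Not at hcon
      exact h.V_ne_bot ((Subgroup.eq_bot_iff_forall V).2 hcon)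
    have hvv : (⟨v, hVK hv⟩ : K) * ⟨v, hVK hv⟩ = 1 := Subtype.ext (h.sq hv)
    obtain ⟨x, hx, hi⟩ := ONOut.exists_nineteen (v := e ⟨v, hVK hv⟩) (by rw [← map_mul, hvv, map_one]) (by
      intro h1
      have h2 : (⟨v, hVK hv⟩ : K) = 1 := by
        apply e.injective
        rw [h1, map_one]
      exact hv1 (congrArg Subtype.val h2))
    have hxo : orderOf ((e.symm x : K) : G) = 19 := by
      rw [orderOf_coe, MulEquiv.orderOf_eq, hx]
    obtain ⟨w, hw, hw1, hc⟩ := h.t0 hv (x := ((e.symm x : K) : G)) (by rw [hxo]; decide) (by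
      have h1 : (⟨v, hVK hv⟩ : K) * e.symm x * (⟨v, hVK hv⟩ : K)⁻¹ = (e.symm x)⁻¹ := by
        apply e.injective
        rw [map_mul, map_mul, map_inv, map_inv, MulEquiv.apply_symm_apply, hi]
      exact congrArg Subtype.val h1)
    exact hno (r := 19) (by norm_num) w hw (hVK hw) hw1 _ hxo (by decide) hc
  · -- `G ≠ K`
    obtain ⟨v, hv, hvK⟩ := SetLike.not_le_iff_exists.1 hVK
    have hv1 : v ≠ 1 := fun h1 => hvK (h1 ▸ K.one_mem)
    obtain ⟨z, hz, hi⟩ := ONOut.exists_inv (σ := Φ e v) (by rw [← map_mul, h.sq hv, map_one])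
      (fun x hx => hvK (mem_of_inner h e hx))
    set x : K := e.symm z with hxdef
    have hxo : orderOf (x : G) = 31 := by
      rw [orderOf_coe, hxdef, MulEquiv.orderOf_eq, hz]
    have hinv : v * (x : G) * v⁻¹ = (x : G)⁻¹ := by
      have h1 := Φ_apply e v x
      rw [hxdef, MulEquiv.apply_symm_apply, hi] at h1
      have h2 : e ((e.symm z)⁻¹) = z⁻¹ := by rw [map_inv, MulEquiv.apply_symm_apply]
      rw [← h2] at h1
      exact (congrArg Subtype.val (e.injective h1)).symm
    obtain ⟨w, hw, hw1, hc⟩ := h.t0 hv (x := (x : G)) (by rw [hxo]; decide) hinv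
    by_cases hwK : w ∈ K
    · exact hno (r := 31) (by norm_num) w hw hwK hw1 _ hxo (by decide) hc
    · have hvw : v * w ∈ K := by
        obtain ⟨a, ha | ha⟩ := Cfsg.Agent.UGT.C.BalON.out' ONOut.hON (Φ e v)
        · exact absurd (mem_of_inner h e ha) hvK
        obtain ⟨b, hb | hb⟩ := Cfsg.Agent.UGT.C.BalON.out' ONOut.hON (Φ e w)
        · exact absurd (mem_of_inner h e hb) hwK
        refine mem_of_inner h e (x := a * Cfsg.Agent.UGT.C.BalON.bt ONOut.hON b) ?_
        rw [map_mul, ha, hb]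
        ext c
        simp [mul_assoc, Cfsg.Agent.UGT.C.BalON.bt_bt']
      refine ONOut.no_real (r := e ⟨v * w, hvw⟩) (y := e x) ?_ ?_ ?_
      · rw [MulEquiv.orderOf_eq, ← orderOf_coe, hxo]
      · rw [← map_mul]
        have h1 : (⟨v * w, hvw⟩ : K) * ⟨v * w, hvw⟩ = 1 := by
          apply Subtype.ext
          show v * w * (v * w) = 1
          exact h.sq (V.mul_mem hv hw)
        rw [h1, map_one]
      · rw [← map_mul, ← map_inv, ← map_mul, ← map_inv]
        apply congrArg e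
        apply Subtype.ext
        show v * w * (x : G) * (v * w)⁻¹ = (x : G)⁻¹
        calc v * w * (x : G) * (v * w)⁻¹ = v * (w * (x : G) * w⁻¹) * v⁻¹ := by group
          _ = v * (x : G) * v⁻¹ := by rw [hc.eq, mul_inv_cancel_right]
          _ = _ := hinv

end Cfsg.Agent.H248.SK.ON
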